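import Groth.Agent.Lib.FundIso27.Iso
import Groth.Agent.Lib.RHomO20.Compare
import Groth.Agent.Lib.ClosedHom20.Basic

/-!
# `R Hom(O_Z, O)` for a regular immersion of locally Noetherian schemes
-/

set_option autoImplicit false
set_option maxHeartbeats 1000000
set_option linter.style.haveILetI false
set_option backward.isDefEq.respectTransparency false

universe u

open CategoryTheory CategoryTheory.Limits AlgebraicGeometry

noncomputable section

namespace GrothLib.SmoothDual22

variable {P X : Scheme.{u}} [IsLocallyNoetherian P] (ι : X ⟶ P) [IsClosedImmersion ι] {r : ℕ}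
  (hι : RegImm.IsRegularImmersionOfCodim RegImm.Kind.regular r ι)
  [HasInjectiveResolutions P.Modules] [Dual3.HasHomO ι]

include hι

omit [IsLocallyNoetherian P] [IsClosedImmersion ι] [HasInjectiveResolutions P.Modules] [Dual3.HasHomO ι] in
theorem free_secMod_structure (W : P.Opens) :
    Module.Flat Γ(P, W) (ExtTilde20.secMod (U := W) (Coh.structureModule P)) :=
  Module.Flat.of_linearEquiv (R := Γ(P, W)) (M := Γ(P, W))
    ({ toFun := fun a => a, invFun := fun a => a, map_add' := fun _ _ => rfl, map_smul' := fun _ _ => rfl,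
       left_inv := fun _ => rfl, right_inv := fun _ => rfl } :
      ExtTilde20.secMod (U := W) (Coh.structureModule P) ≃ₗ[Γ(P, W)] Γ(P, W))

/-- The sheaves `R^p Hom(O_Z, O)` vanish off the codimension. -/
theorem isZero_rightDerived_homO (p : ℕ) (hp : p ≠ r) :
    IsZero (((Dual3.homO ι).rightDerived p).obj (Coh.structureModule P)) := by
  haveI : HasInjectiveResolutions (ModSite.Mod P.sheaf) := ‹_›
  haveI : ModSite.HasSheafHom (O := P.sheaf) (FundIso27.OZ ι) := SheafCoh.hasSheafHom P.sheaf _
  haveI : (Coh.structureModule P).IsQuasicoherent := (HomSh.isCoh_structureModule P).1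
  obtain ⟨e⟩ := RHomO20.nonempty_push_rightDerived ι (Coh.structureModule P) p
  have hM := QCoh.pushUnit_isCoh ι
  haveI : (FundIso27.OZ ι).IsQuasicoherent := hM.1
  let T : P.Modules := (ModSite.extSh (O := P.sheaf) (FundIso27.OZ ι) p).obj (Coh.structureModule P)
  have hT : IsZero T := by
    rw [IsZero.iff_id_eq_zero]
    refine Scheme.Modules.hom_ext _ _ fun V => ConcreteCategory.hom_ext _ _ fun s => ?_
    have key : ∀ W : FundIso27.Ix ι r, Subsingleton Γ(T, W.1.1) := by
      rintro ⟨⟨W, hW⟩, hW'⟩
      haveI : IsNoetherianRing Γ(P, W) := IsLocallyNoetherian.component_noetherian ⟨W, hW⟩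
      haveI : Module.Finite Γ(P, W) Γ(FundIso27.OZ ι, W) := QCoh.moduleFinite_of_isFiniteType _ hM.2 hW
      have hExt : Subsingleton (Abelian.Ext (ExtTilde20.secMod (U := W) (FundIso27.OZ ι))
          (ExtTilde20.secMod (U := W) (Coh.structureModule P)) p) := by
        rcases hW' with ⟨f, hf⟩ | hb
        · haveI := free_secMod_structure ι hι W
          rcases lt_or_gt_of_ne hp with h | h
          · exact FundIso27.ext_below (hf.isLFrame hW) _ p h
          · exact FundIso27.ext_above (hf.isLFrame hW) _ p h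
        · haveI : Subsingleton Γ(FundIso27.OZ ι, W) := by
            change Subsingleton Γ(Coh.structureModule X, ι ⁻¹ᵁ W)
            rw [show ι ⁻¹ᵁ W = ⊥ from hb]
            exact Cohom.subsingleton_sections_bot (Coh.toAb (Coh.structureModule X))
          have hz : IsZero (ExtTilde20.secMod (U := W) (FundIso27.OZ ι)) :=
            haveI : Subsingleton (ExtTilde20.secMod (U := W) (FundIso27.OZ ι)) :=
              inferInstanceAs (Subsingleton Γ(FundIso27.OZ ι, W))
            ModuleCat.isZero_of_subsingleton _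
          exact ⟨fun a b => by
            rw [← Abelian.Ext.mk₀_id_comp a, ← Abelian.Ext.mk₀_id_comp b, hz.eq_of_src (𝟙 _) 0]
            simp⟩
      have h := FundIso27.isZero_derived_qcoh hW (M := FundIso27.OZ ι) (Coh.structureModule P) p hExt
      haveI : IsIso ((FundIso27.Rres hW).map (0 : T ⟶ T)) := h.isIso h _
      have hb := FundIso27.app_bijective_of_isIso_restrict hW (0 : T ⟶ T) this
      exact ⟨fun a b => hb.1 rfl⟩
    refine TopCat.Sheaf.eq_of_locally_eq' ⟨T.presheaf, T.isSheaf⟩
      (fun W : {W : FundIso27.Ix ι r // W.1.1 ≤ V} => W.1.1.1) V (fun W => homOfLE W.2) ?_ _ _ fun W => ?_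
    · intro y hy
      obtain ⟨W', ⟨⟨W, rfl⟩, hyW, hle⟩⟩ := TopologicalSpace.Opens.isBasis_iff_nbhd.1
        (FundIso27.isBasis_Ix ι hι) (U := V) hy
      exact TopologicalSpace.Opens.mem_iSup.2 ⟨⟨W, hle⟩, hyW⟩
    · haveI := key W.1
      exact Subsingleton.elim _ _
  obtain ⟨hfull, hfaith⟩ := ClosedHom20.full_faithful_pushforward ι
  haveI := hfull
  haveI := hfaith
  rw [IsZero.iff_id_eq_zero]
  exact (Scheme.Modules.pushforward ι).map_injective
    ((hT.of_iso e).eq_of_src _ _)

/-- In the codimension it is the dual of the top exterior power of the conormal module. -/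
theorem nonempty_rightDerived_homO {L : X.Modules} (hL : ExtPow.IsExtPow r (Omega.conormal ι) L)
    [ModSite.HasSheafHom (O := X.sheaf) L] :
    Nonempty (((Dual3.homO ι).rightDerived r).obj (Coh.structureModule P) ≅
      (ModSite.sheafHom (O := X.sheaf) L).obj ((Scheme.Modules.pullback ι).obj (Coh.structureModule P))) := by
  haveI : HasInjectiveResolutions (ModSite.Mod P.sheaf) := ‹_›
  haveI : ModSite.HasSheafHom (O := P.sheaf) (FundIso27.OZ ι) := SheafCoh.hasSheafHom P.sheaf _
  haveI : (Coh.structureModule P).IsQuasicoherent := (HomSh.isCoh_structureModule P).1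
  obtain ⟨e⟩ := RHomO20.nonempty_push_rightDerived ι (Coh.structureModule P) r
  obtain ⟨φ, hφ⟩ := hL
  obtain ⟨d⟩ := FundIso27.nonempty_eSh_iso ι (Coh.structureModule P) φ hφ hι
  obtain ⟨hfull, hfaith⟩ := ClosedHom20.full_faithful_pushforward ι
  haveI := hfull
  haveI := hfaith
  exact ⟨(Scheme.Modules.pushforward ι).preimageIso (e ≪≫ d)⟩

end GrothLib.SmoothDual22
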