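import Groth.Agent.Lib.SmoothDual22.Diagonal
import Groth.Agent.Lib.SmoothDual22.RHom
import Groth.Agent.Lib.ShriekLine22.Main
import Groth.Agent.Lib.FMInv15.Tensor
import Groth.Agent.Lib.FMTrans15.Basic
import Groth.Agent.Lib.DerCat.MapAdj
import Groth.Agent.S3609
import Groth.Prelude.Def_Omega2

/-!
# The upper shriek of a smooth morphism
-/

set_option autoImplicit false
set_option maxHeartbeats 1000000
set_option linter.style.haveILetI false
set_option backward.isDefEq.respectTransparency false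

universe u

open CategoryTheory CategoryTheory.Limits AlgebraicGeometry GrothLib.OX GrothLib.RightAdj22

attribute [local instance] HasDerivedCategory.standard

noncomputable section

namespace GrothLib.SmoothDual22

/-- **`Hom(O_Z, -)` derived at the structure sheaf, as the right adjoint of the direct image.** -/
theorem nonempty_aQ_regular {P Z : Scheme.{u}} [AlgebraicGeometry.IsNoetherian P] (i : Z ⟶ P) [IsClosedImmersion i]
    {r : ℕ} (hι : RegImm.IsRegularImmersionOfCodim RegImm.Kind.regular r i) {L : Z.Modules}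
    (hL : ExtPow.IsExtPow r (Omega.conormal i) L) (OP : DCoh.DQCoh P)
    (hOP : Nonempty (OP.obj ≅ DCoh.inD P (Coh.structureModule P))) :
    PicF.IsInvertible L ∧ ∃ D : Z.Modules, PicF.IsInvertible D ∧
      Nonempty (((DCoh.tensorBi (X := Z)).obj D).obj L ≅ Coh.structureModule Z) ∧
      Nonempty (((aQ i).obj OP).obj ≅ (DCoh.inD Z D)⟦(-(r : ℤ))⟧) := by
  obtain ⟨φ, hφ⟩ := hL
  have hLinv : PicF.IsInvertible L := FundIso27.isInvertible_L i φ hφ hι
  refine ⟨hLinv, ?_⟩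
  haveI : HasInjectiveResolutions P.Modules := inferInstance
  haveI : Dual3.HasHomO i := GrothLib.OX.isLeftAdjoint_pushforward i
  haveI : DCoh.HasRpush i := KInj.hasRightDerivedFunctor _
  haveI : ModSite.HasSheafHom (O := Z.sheaf) L := SheafCoh.hasSheafHom Z.sheaf _
  have hf : DCoh.RpushPreservesQCoh i := fun K hK =>
    KSix19.BettiExact.isQCohD_of_iso' ((rpushIsoRres i).app K).symm (isQCohD_Rres i K hK)
  -- `D` is the inverse
  let D := (ModSite.sheafHom (O := Z.sheaf) L).obj ((Scheme.Modules.pullback i).obj (Coh.structureModule P))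
  haveI := FundIso27.isEquivalence_tensor hLinv
  let adjL : (DCoh.tensorBi (X := Z)).flip.obj L ⊣ FundIso27.homM L := ModSite.sheafHomAdj (O := Z.sheaf) L
  haveI := adjL.isEquivalence_right_of_isEquivalence_left
  obtain ⟨N', hN', -, ⟨n2⟩⟩ := FMBC15.exists_inverse hLinv
  let eD : ((DCoh.tensorBi (X := Z)).obj D).obj L ≅ Coh.structureModule Z :=
    asIso (adjL.counit.app ((Scheme.Modules.pullback i).obj (Coh.structureModule P))) ≪≫
      PicLoc.pullbackStructureIso i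
  let eDN : N' ≅ D := ((DCoh.tensorBi (X := Z)).flip.obj L).preimageIso (n2 ≪≫ eD.symm)
  refine ⟨N', hN', ⟨n2⟩, ?_⟩
  -- the cohomology of `R Hom(O_Z, O)`
  obtain ⟨eO⟩ := hOP
  haveI hO0 : OP.obj.IsGE 0 := ShriekBridge22.isGE_zero_of_iso_structure ⟨eO⟩
  obtain ⟨b⟩ := RHomO20.nonempty_bdd_iso i hf (aQ i) ((aQAdj i).ofNatIsoLeft (rpushQIso i hf).symm)
  obtain ⟨c⟩ := RHomO20.nonempty_plus_iso (R := Dual3.homO i) (Dual3.homOAdj i)
  let Pb : (Dual3.IsBddBelowQ P).FullSubcategory := ⟨OP, 0, hO0⟩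
  let K : DCoh.D Z := ((aQ i).obj OP).obj
  let eK : K ≅ (RHomO20.Φ (Dual3.homO i)).obj OP.obj := b.app Pb ≪≫ c.app ((Dual3.bddToPlus P).obj Pb)
  let R := InjectiveResolution.of (Coh.structureModule P)
  haveI : IsIso (DerivedCategory.Q.map R.ι') := by
    rw [DerivedCategory.isIso_Q_map_iff_quasiIso]; infer_instance
  obtain ⟨ψ⟩ := RHomO20.nonempty_Φ_Q (Dual3.homO i) R.cochainComplex
  let hom : ∀ p : ℕ, DCoh.HD K (p : ℤ) ≅ ((Dual3.homO i).rightDerived p).obj (Coh.structureModule P) := fun p =>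
    (DerivedCategory.homologyFunctor _ (p : ℤ)).mapIso
      (eK ≪≫ (RHomO20.Φ (Dual3.homO i)).mapIso (eO ≪≫ asIso (DerivedCategory.Q.map R.ι')) ≪≫ ψ) ≪≫
    (DerivedCategory.homologyFunctorFactors _ (p : ℤ)).app _ ≪≫
    DerTrunc.rightDerivedExtendIso (Dual3.homO i) R p
  haveI hge : ((RHomO20.Φ (Dual3.homO i)).obj OP.obj).IsGE 0 := RHomO20.isGE_Φ _ _ 0
  haveI : K.IsGE 0 := DerivedCategory.TStructure.t.isGE_of_iso eK.symm 0
  have hz : ∀ j : ℤ, j ≠ r → IsZero (DCoh.HD K j) := fun j hj => by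
    by_cases h0 : 0 ≤ j
    · obtain ⟨p, rfl⟩ := Int.eq_ofNat_of_zero_le h0
      exact (isZero_rightDerived_homO i hι p (by omega)).of_iso (hom p)
    · exact DerivedCategory.isZero_of_isGE K 0 j (by omega)
  haveI : K.IsGE (r : ℤ) := (DerivedCategory.isGE_iff _ _).2 fun j hj => hz j (by omega)
  haveI : K.IsLE (r : ℤ) := (DerivedCategory.isLE_iff _ _).2 fun j hj => hz j (by omega)
  obtain ⟨M, ⟨eM⟩⟩ := DerivedCategory.exists_iso_singleFunctor_obj_of_isGE_of_isLE K (r : ℤ)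
  obtain ⟨eR⟩ := nonempty_rightDerived_homO i hι (L := L) ⟨φ, hφ⟩
  let eMD : M ≅ N' :=
    ((DerivedCategory.singleFunctorCompHomologyFunctorIso Z.Modules (r : ℤ)).app M).symm ≪≫
      ((DerivedCategory.homologyFunctor _ (r : ℤ)).mapIso eM).symm ≪≫ hom r ≪≫ eR ≪≫ eDN.symm
  exact ⟨eM ≪≫ (DerivedCategory.singleFunctor Z.Modules (r : ℤ)).mapIso eMD ≪≫
    (((DerivedCategory.singleFunctors Z.Modules).shiftIso (-(r : ℤ)) (r : ℤ) 0 (by omega)).app N').symm⟩

set_option maxHeartbeats 4000000 in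
/-- **`f^!O ≅ Ω^n[n]` for a smooth morphism.** -/
theorem nonempty_shriekC_smooth {S X : Scheme.{u}} [AlgebraicGeometry.IsNoetherian S]
    [AlgebraicGeometry.IsNoetherian X] (n : ℕ) (f : X ⟶ S) [Dual3.IsSepFT f] [SmoothOfRelativeDimension n f]
    (c : DEt.Compactification f) [DCoh.HasRpush c.fbar] (hc : DCoh.RpushPreservesQCoh c.fbar)
    {a : DCoh.DQCoh S ⥤ DCoh.DQCoh c.Xbar} (adj : DCoh.RpushQ c.fbar hc ⊣ a)
    (O : DCoh.DQCoh S) (hO : Nonempty (O.obj ≅ DCoh.inD S (Coh.structureModule S)))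
    (L : X.Modules) (hL : ExtPow.IsExtPow n (Omega.sheaf f) L) :
    Nonempty ((Dual3.shriekC c a).obj O ≅ (DCoh.inD X L)⟦(n : ℤ)⟧) := by
  haveI : LocallyOfFiniteType f := Dual3.IsSepFT.locallyOfFiniteType
  haveI : QuasiCompact f := Dual3.IsSepFT.quasiCompact
  haveI : IsSeparated f := Dual3.IsSepFT.isSeparated
  haveI : Smooth f := SmoothOfRelativeDimension.smooth n f
  haveI : Flat f := inferInstance
  haveI : PreservesFiniteLimits (Scheme.Modules.restrictFunctor c.j) := inferInstance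
  haveI : ∀ (U V : Scheme.{u}) (j : U ⟶ V) [IsOpenImmersion j],
      PreservesFiniteLimits (Scheme.Modules.restrictFunctor j) := fun _ _ _ _ => inferInstance
  let X' := pullback f f
  let g' : X' ⟶ X := pullback.fst f f
  let f' : X' ⟶ X := pullback.snd f f
  haveI : LocallyOfFiniteType f' := inferInstance
  haveI : IsLocallyNoetherian X' := LocallyOfFiniteType.isLocallyNoetherian f'
  haveI : CompactSpace X' := QuasiCompact.compactSpace_of_compactSpace f'
  haveI : AlgebraicGeometry.IsNoetherian X' := {}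
  let Xb := pullback c.fbar f
  let j' : X' ⟶ Xb := pullback.map f f c.fbar f c.j (𝟙 X) (𝟙 S) (by simp [c.fac]) (by simp)
  haveI : IsOpenImmersion j' := by
    haveI := c.isOpenImmersion
    infer_instance
  let c' : DEt.Compactification f' :=
    ⟨Xb, j', pullback.snd c.fbar f, inferInstance, inferInstance, by simp [j', f']⟩
  haveI := isNoetherian_of_proper c'.fbar
  haveI : QuasiSeparated c'.fbar := inferInstance
  haveI : DCoh.HasRpush c'.fbar := KInj.hasRightDerivedFunctor _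
  have hc' : DCoh.RpushPreservesQCoh c'.fbar := fun K hK =>
    KSix19.BettiExact.isQCohD_of_iso' ((rpushIsoRres c'.fbar).app K).symm (isQCohD_Rres c'.fbar K hK)
  let adj' := (aQAdj c'.fbar).ofNatIsoLeft (rpushQIso c'.fbar hc').symm
  haveI := hasLpull f
  haveI := hasLpull g'
  have hLg : Dual3.LpullPreservesQCoh f := fun _ hK => TorBC25.isQCohD_lpull f hK
  obtain ⟨b⟩ := HomBC22.nonempty_shriekC_bc (IsPullback.of_hasPullback f f) c c' hc hc' adj adj' hLg
  have hO0 := ShriekBridge22.isGE_zero_of_iso_structure hO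
  let O₁ : BQ S := ⟨O, 0, hO0⟩
  let OX : DCoh.DQCoh X := (Dual3.LpullQ f hLg).obj O
  obtain ⟨l⟩ := Detect22.nonempty_lpull_unit f
  obtain ⟨eO⟩ := id hO
  let eX : OX.obj ≅ DCoh.inD X (Coh.structureModule X) :=
    (DCoh.Lpull f).mapIso (eO ≪≫ (unitCxQIso S).symm) ≪≫ l ≪≫ unitCxQIso X
  have hX0 : OX.obj.IsGE 0 := ShriekBridge22.isGE_zero_of_iso_structure ⟨eX⟩
  let O₂ : BQ X := ⟨OX, 0, hX0⟩
  obtain ⟨s⟩ := nonempty_shriekC c' hc' adj'
  haveI hj' : IsOpenImmersion c'.j := c'.isOpenImmersion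
  haveI hp' : IsProper c'.fbar := c'.isProper
  let GB := (shB c'.j c'.fbar).obj O₂
  let E := (Dual3.shriekC c a).obj O
  let eG : GB.obj.obj ≅ (DCoh.Lpull g').obj E := (b.app O₁ ≪≫ s.app O₂).symm
  -- `E` is perfect
  haveI : Dual3.IsSepFT (𝟙 S) := ⟨inferInstance, inferInstance, inferInstance⟩
  have hEinv : Dual3.IsInvertibleD E := Groth.Agent.S3609.result S X S f (𝟙 S) f (Category.comp_id f)
    (isLCIMor_of_smooth f n) c hc a adj O hO
  have hu : ∀ W : Scheme.{u}, DCoh.IsPerfect (DCoh.inD W (Coh.structureModule W)) := fun W => isPerfect_unit W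
  have hE : DCoh.IsPerfect E := isPerfect_of_local fun x => by
    obtain ⟨U, m, hx, ⟨e⟩⟩ := hEinv x
    exact ⟨_, U.ι, inferInstance, ⟨⟨x, hx⟩, rfl⟩, isPerfect_of_iso (isPerfect_shift (hu _) m) e.symm⟩
  -- the diagonal
  let i := pullback.diagonal f
  have hif : i ≫ f' = 𝟙 X := pullback.diagonal_snd f
  have hig : i ≫ g' = 𝟙 X := pullback.diagonal_fst f
  haveI : DCoh.HasRpush i := KInj.hasRightDerivedFunctor _
  have hi : DCoh.RpushPreservesQCoh i := fun K hK =>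
    KSix19.BettiExact.isQCohD_of_iso' ((rpushIsoRres i).app K).symm (isQCohD_Rres i K hK)
  obtain ⟨u⟩ := nonempty_shB_comp (𝟙 X) i c'.j c'.fbar (𝟙 X) (𝟙 X) (Category.id_comp i)
    c'.fac (by rw [Category.id_comp, hif])
  let uh : OX.obj ≅ ((aQ i).obj GB.obj).obj :=
    ((resDIdIso X).app OX.obj).symm ≪≫
      (BQι X).mapIso ((resB (𝟙 X)).mapIso (aBId.app O₂).symm ≪≫ u.app O₂ ≪≫ (resBId X).app ((aB i).obj GB))
  -- the formula
  haveI := hasLpull i
  haveI := hasLpull (i ≫ g')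
  haveI := hasLpull (𝟙 X)
  haveI : QuasiCompact g' := inferInstance
  let K : DCoh.DQCoh X' := ⟨(DCoh.Lpull g').obj E, TorBC25.isQCohD_lpull g' (isQCohD_of_isPerfect hE)⟩
  have hK : DCoh.IsPerfect K.obj := isPerfect_lpull g' hE
  let L₀ : DCoh.DQCoh X' := ⟨DCoh.inD X' (Coh.structureModule X'), isQCohD_of_isPerfect (isPerfect_unit X')⟩
  obtain ⟨P, hP, ⟨eP⟩⟩ := exists_kflat_rep K.obj
  haveI := hasLTensorCx P
  obtain ⟨t⟩ := Dual22.nonempty_ltensorCx_shift_unit P 0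
  let eN : (DCoh.LTensorCx P).obj L₀.obj ≅ GB.obj.obj :=
    (DCoh.LTensorCx P).mapIso (((shiftFunctorZero (DCoh.D X') ℤ).app L₀.obj).symm) ≪≫ t ≪≫
      (shiftFunctorZero (DCoh.D X') ℤ).app _ ≪≫ eP ≪≫ eG.symm
  have hKL : DCoh.IsQCohD ((DCoh.LTensorCx P).obj L₀.obj) :=
    KSix19.BettiExact.isQCohD_of_iso' eN.symm GB.obj.property
  obtain ⟨hLinv, D, hD, ⟨r⟩, ⟨eA⟩⟩ := nonempty_aQ_regular i (diagonal_regular f n) hL L₀ ⟨Iso.refl _⟩
  let D₀ := (HomologicalComplex.single X.Modules (ComplexShape.up ℤ) 0).obj D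
  let W : CochainComplex X.Modules ℤ := D₀⟦(-(n : ℤ))⟧
  let eW : DerivedCategory.Q.obj W ≅ ((aQ i).obj L₀).obj :=
    ((DerivedCategory.Q (C := X.Modules)).commShiftIso (-(n : ℤ))).app D₀ ≪≫
      (shiftFunctor (DCoh.D X) (-(n : ℤ))).mapIso
        ((DerivedCategory.singleFunctorIsoCompQ X.Modules 0).app D).symm ≪≫ eA.symm
  haveI := hasLTensorCx W
  haveI := hasLTensorCx D₀
  obtain ⟨k⟩ := RightAdj20.nonempty_adjoint_ltensor i hi ((aQAdj i).ofNatIsoLeft (rpushQIso i hi).symm) K L₀ hK P eP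
    hKL W eW
  obtain ⟨lh⟩ := FMBC15.nonempty_lpull_id X
  let key : DCoh.inD X (Coh.structureModule X) ≅ (DCoh.LTensorCx W).obj E :=
    eX.symm ≪≫ uh ≪≫ (ObjectProperty.ι _).mapIso ((aQ i).mapIso (ObjectProperty.isoMk _ eN.symm)) ≪≫ k ≪≫
      (DCoh.LTensorCx W).mapIso ((lpullCompIso i g').app E ≪≫ (FMBC15.lpullCongr hig).app E ≪≫ lh.app E)
  -- invert
  obtain ⟨_, _, _⟩ := FMTrans15.exact_tF' hD
  obtain ⟨_, _, _⟩ := FMTrans15.exact_tF' hLinv
  obtain ⟨tD⟩ := FMInv15.nonempty_ltensorCx_single (N := D) hD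
  obtain ⟨tS⟩ := FMInv15.nonempty_ltensorCx_shift D₀ (-(n : ℤ))
  let T := (Euler.tF D).mapDerivedCategory
  let T' := (Euler.tF L).mapDerivedCategory
  let eT : T.obj E ≅ (DCoh.inD X (Coh.structureModule X))⟦(n : ℤ)⟧ :=
    ((shiftFunctorCompIsoId (DCoh.D X) (-(n : ℤ)) (n : ℤ) (neg_add_cancel _)).app _).symm ≪≫
      (shiftFunctor (DCoh.D X) (n : ℤ)).mapIso
        ((shiftFunctor (DCoh.D X) (-(n : ℤ))).mapIso (tD.app E).symm ≪≫ (tS.app E).symm ≪≫ key.symm)
  let eI : T ⋙ T' ≅ 𝟭 (DCoh.D X) :=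
    DerCat.mapDerivedCompIso _ _ _ (FMTrans15.tFComp r ≪≫ FMTrans15.tFId) ≪≫ GrothLib.OX.mapDerivedIdIso
  exact ⟨(eI.app E).symm ≪≫ T'.mapIso eT ≪≫ (T'.commShiftIso (n : ℤ)).app _ ≪≫
    (shiftFunctor (DCoh.D X) (n : ℤ)).mapIso (((Euler.tF L).mapDerivedCategorySingleFunctor 0).app _ ≪≫
      (DerivedCategory.singleFunctor X.Modules 0).mapIso (GrothLib.OX.tensorUnitNatIso.app L))⟩

end GrothLib.SmoothDual22
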