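import Groth.Agent.Lib.SmoothSection.Scheme
import Groth.Agent.Lib.LCI6.Smooth
import Groth.Prelude.Def_Dual3
import Groth.Prelude.Def_RegImm
import Mathlib.AlgebraicGeometry.Morphisms.Smooth

/-!
# The diagonal of a smooth morphism is regular; smooth morphisms are local complete intersections
-/

set_option autoImplicit false
set_option linter.style.haveILetI false

universe u

open CategoryTheory CategoryTheory.Limits AlgebraicGeometry

namespace GrothLib.SmoothDual22

variable {X S : Scheme.{u}} (f : X ⟶ S)

/-- The diagonal of a separated morphism smooth of relative dimension `n` is regular of codimension `n`. -/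
theorem diagonal_regular (n : ℕ) [SmoothOfRelativeDimension n f] [IsSeparated f] :
    RegImm.IsRegularImmersionOfCodim RegImm.Kind.regular n (pullback.diagonal f) := by
  refine ⟨inferInstance, fun z => ?_⟩
  haveI : SmoothOfRelativeDimension n (pullback.fst f f) :=
    (smoothOfRelativeDimension_isStableUnderBaseChange n).of_isPullback
      (IsPullback.of_hasPullback f f).flip ‹SmoothOfRelativeDimension n f›
  obtain ⟨U₀, hU₀, V₁, hV₁, hzV₁, e₁, hsm⟩ :=
    SmoothOfRelativeDimension.exists_isStandardSmoothOfRelativeDimension (n := n) (f := pullback.fst f f)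
      (pullback.diagonal f z)
  obtain ⟨_, ⟨V₀, hV₀, rfl⟩, hzV₀, -⟩ := X.isBasis_affineOpens.exists_subset_of_mem_open (Set.mem_univ z) isOpen_univ
  obtain ⟨V, hxV, rs, hlen, hreg, hker⟩ :=
    GrothLib.SmoothSection.exists_chart_regular n (pullback.fst f f) (pullback.diagonal f) (𝟙 X)
      (pullback.diagonal_fst f) z hU₀ hV₁ hzV₁ e₁ hsm ⟨V₀, hV₀⟩ hzV₀ [] (by simp) (by
        rw [Scheme.Hom.ker_apply, Ideal.ofList_nil, ← RingHom.injective_iff_ker_eq_bot]
        simp only [Scheme.Hom.id_app]
        exact Function.injective_id)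
  refine ⟨V, hxV, inferInstance, rs, by simpa using hlen, hreg, ?_⟩
  rw [← hker, Scheme.Hom.ker_apply]

/-- A smooth morphism is a local complete intersection. -/
theorem isLCIMor_of_smooth (n : ℕ) [SmoothOfRelativeDimension n f] : Dual3.IsLCIMor f := fun x => by
  obtain ⟨V, hV, U, hU, hx, e, hs⟩ :=
    SmoothOfRelativeDimension.exists_isStandardSmoothOfRelativeDimension (n := n) (f := f) x
  refine ⟨⟨U, hU⟩, ⟨V, hV⟩, e, hx, ?_⟩
  letI := (f.appLE V U e).hom.toAlgebra
  haveI : Algebra.IsStandardSmooth Γ(S, V) Γ(X, U) := RingHom.IsStandardSmoothOfRelativeDimension.isStandardSmooth _ _ hs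
  exact GrothLib.LCI6.isLCI_of_smooth Γ(S, V) Γ(X, U)

end GrothLib.SmoothDual22
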